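import Mathlib.RingTheory.PowerSeries.Inverse
import Mathlib.RingTheory.PowerSeries.Trunc
import Mathlib.RingTheory.PowerSeries.Derivative
import Mathlib.RingTheory.PowerSeries.WellKnown
import Mathlib.LinearAlgebra.TensorProduct.Tower
import Mathlib.RingTheory.TensorProduct.Basic

/-!
# The residue computation behind Adams Riemann–Roch for projective space
-/

set_option autoImplicit false

open PowerSeries Finset
open scoped TensorProduct

noncomputable section

namespace Groth.Agent.Lib.Lambda33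

variable {R : Type*} [CommRing R]

/-- The residue of `dy / y^(k+1)` for `y = X * h`. -/
theorem coeff_residue [IsDomain R] [CharZero R] (h g : R⟦X⟧) (hg : g * h = 1) :
    ∀ k : ℕ, coeff k (d⁄dX R (X * h) * g ^ (k + 1)) = if k = 0 then 1 else 0 := by
  intro k
  have hd : d⁄dX R (X * h) = h + X * d⁄dX R h := by
    rw [Derivation.leibniz, derivative_X]; simp [add_comm]
  cases k with
  | zero =>
    rw [hd, if_pos rfl, coeff_zero_eq_constantCoeff_apply]
    have hc := congrArg (constantCoeff (R := R)) hg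
    simp only [map_mul, map_one] at hc
    simp [mul_comm (constantCoeff h), hc]
  | succ k =>
    rw [if_neg (Nat.succ_ne_zero k)]
    have h1 : (h + X * d⁄dX R h) * g ^ (k + 1 + 1) = g ^ (k + 1) + X * (d⁄dX R h * g ^ (k + 1 + 1)) := by
      linear_combination (g ^ (k + 1)) * hg
    have hdg : d⁄dX R g = -(g ^ 2 * d⁄dX R h) := by
      have := congrArg (d⁄dX R) hg
      rw [Derivation.leibniz, Derivation.map_one_eq_zero, smul_eq_mul, smul_eq_mul] at this
      linear_combination g * this - (d⁄dX R g) * hg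
    have h2 : d⁄dX R (g ^ (k + 1)) = -(((k + 1 : ℕ) : R⟦X⟧) * (d⁄dX R h * g ^ (k + 1 + 1))) := by
      rw [Derivation.leibniz_pow, hdg, nsmul_eq_mul, smul_eq_mul, Nat.add_sub_cancel]
      ring
    rw [hd, h1, map_add, coeff_succ_X_mul]
    have h3 := congrArg (coeff k) h2
    rw [coeff_derivative, map_neg, ← map_natCast (C (R := R)), coeff_C_mul] at h3
    have hk : ((k + 1 : ℕ) : R) ≠ 0 := Nat.cast_ne_zero.2 (Nat.succ_ne_zero k)
    refine mul_left_cancel₀ hk ?_
    rw [mul_zero]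
    push_cast at h3 ⊢
    linear_combination h3

/-- The residue of `y^m dy / y^(n+1)`. -/
theorem coeff_residue_pow [IsDomain R] [CharZero R] (h g : R⟦X⟧) (hg : g * h = 1) (n m : ℕ) :
    coeff n ((X * h) ^ m * d⁄dX R (X * h) * g ^ (n + 1)) = if m = n then 1 else 0 := by
  rcases Nat.lt_or_ge n m with hlt | hle
  · rw [if_neg (by omega), mul_pow, mul_assoc, mul_assoc, coeff_X_pow_mul', if_neg (by omega)]
  · obtain ⟨k, rfl⟩ := Nat.exists_eq_add_of_le hle
    have : h ^ m * g ^ (m + k + 1) = g ^ (k + 1) := by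
      rw [show m + k + 1 = m + (k + 1) by ring, pow_add, ← mul_assoc, ← mul_pow, mul_comm h g, hg,
        one_pow, one_mul]
    rw [mul_pow, show X ^ m * h ^ m * d⁄dX R (X * h) * g ^ (m + k + 1) =
      X ^ m * (d⁄dX R (X * h) * (h ^ m * g ^ (m + k + 1))) by ring, this, add_comm m k,
      coeff_X_pow_mul, coeff_residue h g hg]
    congr 1
    exact propext ⟨fun hk => by omega, fun hk => by omega⟩

theorem sum_coeff_eq (f : R⟦X⟧) (n : ℕ) :
    ∑ k ∈ range (n + 1), coeff k f = coeff n (f * PowerSeries.mk 1) := by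
  rw [coeff_mul, Finset.Nat.sum_antidiagonal_eq_sum_range_succ_mk]
  simp

/-- `∑_{a<j} (1-X)^a`. -/
def geom (R : Type*) [CommRing R] (j : ℕ) : R⟦X⟧ := ∑ a ∈ range j, (1 - X) ^ a

theorem constantCoeff_geom (j : ℕ) : constantCoeff (geom R j) = (j : R) := by
  simp [geom]

theorem X_mul_geom (j : ℕ) : X * geom R j = 1 - (1 - X) ^ j := by
  rw [← mul_neg_geom_sum (1 - X : R⟦X⟧) j, geom]
  ring

/-- Adams Riemann–Roch on powers of the tautological line. -/
theorem sum_coeff_core [IsDomain R] [CharZero R] (n j i : ℕ) (hj : 1 ≤ j) (hi : i ≤ n)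
    (g : R⟦X⟧) (hg : g * geom R j = 1) :
    ∑ k ∈ range (n + 1), coeff k ((j : R⟦X⟧) * (1 - X) ^ (i * j) * g ^ (n + 1)) =
      if i = 0 then 1 else 0 := by
  obtain ⟨j, rfl⟩ : ∃ j', j = j' + 1 := ⟨j - 1, by omega⟩
  set u : R⟦X⟧ := 1 - X with hu
  set v : R⟦X⟧ := PowerSeries.mk 1 with hv
  have huv : v * u = 1 := mk_one_mul_one_sub_eq_one R
  set y : R⟦X⟧ := X * geom R (j + 1) with hy
  have hyu : y = 1 - u ^ (j + 1) := X_mul_geom (j + 1)
  have hdy : d⁄dX R y = ((j + 1 : ℕ) : R⟦X⟧) * u ^ j := by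
    rw [hyu, map_sub, Derivation.map_one_eq_zero, Derivation.leibniz_pow, nsmul_eq_mul, smul_eq_mul,
      hu, map_sub, Derivation.map_one_eq_zero, derivative_X, Nat.add_sub_cancel]
    ring
  rw [sum_coeff_eq]
  cases i with
  | zero =>
    rw [if_pos rfl, zero_mul, pow_zero, mul_one]
    have hgeo : (1 - y) * ∑ m ∈ range (n + 1), y ^ m = 1 - y ^ (n + 1) :=
      mul_neg_geom_sum y (n + 1)
    have key : ((j + 1 : ℕ) : R⟦X⟧) * g ^ (n + 1) * v =
        ∑ m ∈ range (n + 1), y ^ m * d⁄dX R y * g ^ (n + 1) +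
          X ^ (n + 1) * (((j + 1 : ℕ) : R⟦X⟧) * (geom R (j + 1) * g) ^ (n + 1) * v) := by
      rw [← Finset.sum_mul, ← Finset.sum_mul, hdy]
      have e1 : u ^ (j + 1) * ∑ m ∈ range (n + 1), y ^ m = 1 - y ^ (n + 1) := by
        rw [← hgeo, hyu]; ring
      have e2 : X ^ (n + 1) * geom R (j + 1) ^ (n + 1) = y ^ (n + 1) := by rw [hy, mul_pow]
      linear_combination (-(((j + 1 : ℕ) : R⟦X⟧) * g ^ (n + 1) * v)) * e1 -
        (((j + 1 : ℕ) : R⟦X⟧) * g ^ (n + 1) * v) * e2 +
        (((j + 1 : ℕ) : R⟦X⟧) * g ^ (n + 1) * u ^ j * ∑ m ∈ range (n + 1), y ^ m) * huv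
    rw [key, map_add, map_sum, coeff_X_pow_mul', if_neg (by omega), add_zero,
      Finset.sum_eq_single n (fun m _ hm => by rw [hy, coeff_residue_pow _ _ hg, if_neg hm])
        (fun h => absurd (Finset.mem_range.2 (Nat.lt_succ_self n)) h),
      hy, coeff_residue_pow _ _ hg, if_pos rfl]
  | succ i =>
    rw [if_neg (Nat.succ_ne_zero i)]
    have key : ((j + 1 : ℕ) : R⟦X⟧) * u ^ ((i + 1) * (j + 1)) * g ^ (n + 1) * v =
        (1 - y) ^ i * (d⁄dX R y * g ^ (n + 1)) := by
      rw [hdy, hyu, sub_sub_cancel, ← pow_mul, show (i + 1) * (j + 1) = (j + 1) * i + j + 1 by ring,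
        pow_add, pow_add, pow_one]
      linear_combination (((j + 1 : ℕ) : R⟦X⟧) * u ^ ((j + 1) * i) * u ^ j * g ^ (n + 1)) * huv
    rw [key, sub_eq_add_neg, add_comm, add_pow, Finset.sum_mul, map_sum]
    refine Finset.sum_eq_zero fun m hm => ?_
    have hm' := Finset.mem_range.1 hm
    rw [show (-y) ^ m * 1 ^ (i - m) * (i.choose m : R⟦X⟧) * (d⁄dX R y * g ^ (n + 1)) =
        (((-1) ^ m * (i.choose m : R) : R)) • (y ^ m * d⁄dX R y * g ^ (n + 1)) by
      rw [neg_pow, one_pow, smul_eq_C_mul, (C (R := R)).map_mul, (C (R := R)).map_pow, (C (R := R)).map_neg, (C (R := R)).map_one, map_natCast (C (R := R))]; ring,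
      map_smul, hy, coeff_residue_pow _ _ hg, if_neg (by omega), smul_zero]

section Eval

variable {K : Type*} [CommRing K]

theorem aeval_trunc_eq {B : Type*} [CommRing B] [Algebra R B] {N : B} {m : ℕ} (hN : N ^ m = 0)
    (P : Polynomial R) : Polynomial.aeval N (PowerSeries.trunc m (P : R⟦X⟧)) = Polynomial.aeval N P := by
  obtain ⟨Q, hQ⟩ : Polynomial.X ^ m ∣ P - PowerSeries.trunc m (P : R⟦X⟧) := by
    rw [Polynomial.X_pow_dvd_iff]
    intro d hd
    simp [coeff_trunc, hd]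
  rw [← sub_eq_zero, ← map_sub, ← neg_sub, map_neg, hQ, map_mul, map_pow, Polynomial.aeval_X, hN,
    zero_mul, neg_zero]

/-- Evaluation of a power series at a nilpotent element. -/
def evalNil {B : Type*} [CommRing B] [Algebra R B] (N : B) (m : ℕ) (hN : N ^ (m + 1) = 0) :
    R⟦X⟧ →+* B where
  toFun f := Polynomial.aeval N (PowerSeries.trunc (m + 1) f)
  map_one' := by rw [← Polynomial.coe_one, aeval_trunc_eq hN, map_one]
  map_mul' f g := by
    rw [← map_mul, ← aeval_trunc_eq hN (trunc (m + 1) f * trunc (m + 1) g), Polynomial.coe_mul,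
      trunc_trunc_mul_trunc]
  map_zero' := by rw [map_zero, map_zero]
  map_add' f g := by rw [map_add, map_add]

theorem evalNil_X {B : Type*} [CommRing B] [Algebra R B] (N : B) (m : ℕ) (hN : N ^ (m + 1) = 0) :
    evalNil (R := R) N m hN X = N := by
  show Polynomial.aeval N (PowerSeries.trunc (m + 1) (X : R⟦X⟧)) = N
  rw [← Polynomial.coe_X, aeval_trunc_eq hN, Polynomial.aeval_X]

theorem evalNil_eq_sum (x : K) (m : ℕ) (hN : ((1 : R) ⊗ₜ[ℤ] x) ^ (m + 1) = 0) (f : R⟦X⟧) :
    evalNil (R := R) ((1 : R) ⊗ₜ[ℤ] x) m hN f = ∑ k ∈ range (m + 1), coeff k f ⊗ₜ[ℤ] (x ^ k) := by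
  show Polynomial.aeval _ _ = _
  rw [trunc_apply, ← Finset.range_eq_Ico, map_sum]
  refine Finset.sum_congr rfl fun k _ => ?_
  rw [Polynomial.aeval_monomial, Algebra.TensorProduct.tmul_pow, one_pow,
    Algebra.TensorProduct.algebraMap_apply, Algebra.TensorProduct.tmul_mul_tmul]
  simp

theorem evalNil_natCast {B : Type*} [CommRing B] [Algebra R B] (N : B) (m : ℕ)
    (hN : N ^ (m + 1) = 0) (a : ℕ) : evalNil (R := R) N m hN (a : R⟦X⟧) = a :=
  map_natCast _ a

end Eval

end Groth.Agent.Lib.Lambda33
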